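import Mathlib
import Cfsg.Prelude.Def_Characters
import Cfsg.Prelude.Def_Solvable
import Cfsg.Agent.Lib.Solvable.MinimalNormal
import Cfsg.Agent.Lib.Basic.PCore
import Cfsg.Agent.Lib.Char.Basic
import Cfsg.Agent.Lib.S4997.Dual
import Cfsg.Agent.Lib.S4997.CentLemma
import Cfsg.Agent.Lib.S4997.CliffVanish
import Cfsg.Agent.Lib.S4997.VanishCore
import Cfsg.Agent.Lib.S4850.Regular

/-! S4850 piece A: a central `p`-element of a Sylow subgroup, outside `O_p(G)`, times a commuting
`p'`-element is a vanishing element. -/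

set_option autoImplicit false

namespace Cfsg.Agent.Lib.S4850
universe u
open Cfsg Cfsg.Agent.Lib.Solvable.MinimalNormal Cfsg.Agent.Lib.Basic.PCore
open Cfsg.Agent.Lib.S4997

theorem exists_vanishing_central_aux (n : ℕ) :
    ∀ (G : Type u) [Group G] [Finite G], Nat.card G = n →
    Group.IsSolvable G → ∀ {p : ℕ} [Fact p.Prime] (P : Sylow p G) {x u : G},
    x ∈ (P : Subgroup G) → (∀ a ∈ (P : Subgroup G), a * x = x * a) → Commute x u →
    (orderOf u).Coprime p → x ∉ Cfsg.pCore p G →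
    ∃ χ : Cfsg.IrrCharacter G, (χ : G → ℂ) (x * u) = 0 := by
  induction n using Nat.strong_induction_on with
  | _ n ih =>
  intro G _ _ hn hsolv p hpf P x u hxP hxc hxu hu hx
  have hxp : ∃ k : ℕ, x ^ (p ^ k) = 1 := by
    obtain ⟨k, hk⟩ := P.isPGroup' ⟨x, hxP⟩
    exact ⟨k, by simpa using congrArg Subtype.val hk⟩
  haveI : Nontrivial G := by
    by_contra h
    rw [not_nontrivial_iff_subsingleton] at h
    apply hx
    rw [Subsingleton.elim x 1]
    exact Subgroup.one_mem _
  obtain ⟨N, hN⟩ := exists_isMinNormal (G := G)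
  haveI hNn : N.Normal := hN.normal
  obtain ⟨hcomm, r, hr, hrN⟩ := hN.elementary
  haveI : Fact r.Prime := ⟨hr⟩
  have hNab : ∀ a ∈ N, ∀ b ∈ N, a * b = b * a := fun a ha b hb =>
    congrArg Subtype.val (hcomm.is_comm.comm ⟨a, ha⟩ ⟨b, hb⟩)
  let π : G →* G ⧸ N := QuotientGroup.mk' N
  have hπs : Function.Surjective π := QuotientGroup.mk'_surjective N
  let Pb : Sylow p (G ⧸ N) := P.mapSurjective hπs
  have hPb : ∀ a : G ⧸ N, a ∈ (Pb : Subgroup (G ⧸ N)) ↔ ∃ q ∈ (P : Subgroup G), π q = a := by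
    intro a
    show a ∈ ((P.mapSurjective hπs : Sylow p (G ⧸ N)) : Subgroup (G ⧸ N)) ↔ _
    rw [Sylow.coe_mapSurjective, Subgroup.mem_map]
  have hcen : ∀ a ∈ (Pb : Subgroup (G ⧸ N)), a * π x = π x * a := by
    intro a ha
    obtain ⟨q, hq, rfl⟩ := (hPb a).1 ha
    rw [← map_mul, ← map_mul, hxc q hq]
  by_cases hxQ : π x ∈ pCore p (G ⧸ N)
  swap
  · have hlt : Nat.card (G ⧸ N) < n := by
      rw [← hn]
      have h1 := Subgroup.card_eq_card_quotient_mul_card_subgroup N
      have h2 : 1 < Nat.card N := by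
        haveI := (Subgroup.nontrivial_iff_ne_bot N).2 hN.ne_bot
        exact Finite.one_lt_card
      have h3 : 0 < Nat.card (G ⧸ N) := Nat.card_pos
      rw [h1]
      exact lt_mul_of_one_lt_right h3 h2
    have hcop : (orderOf (π u)).Coprime p := by
      exact Nat.Coprime.coprime_dvd_left (orderOf_map_dvd π u) hu
    obtain ⟨χ, hχ⟩ := ih _ hlt (G ⧸ N) rfl inferInstance Pb (x := π x) (u := π u)
      ((hPb _).2 ⟨x, hxP, rfl⟩) hcen (hxu.map π) hcop hxQ
    refine ⟨⟨fun g => χ.1 (π g), Cfsg.Agent.Lib.Char.Basic.isIrrCharacter_comp_surjective χ.2 π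
      (QuotientGroup.mk'_surjective N)⟩, ?_⟩
    show χ.1 (π (x * u)) = 0
    rw [map_mul]
    exact hχ
  · set R : Subgroup G := (pCore p (G ⧸ N)).comap π with hRdef
    haveI hQn : (pCore p (G ⧸ N)).Normal := pCore_normal p _
    have hRn : R.Normal := Subgroup.Normal.comap hQn π
    have hNR : N ≤ R := by
      intro a ha
      show π a ∈ pCore p (G ⧸ N)
      have : π a = 1 := (QuotientGroup.eq_one_iff a).2 ha
      rw [this]
      exact Subgroup.one_mem _
    have hRp : ∀ a ∈ R, ∃ k : ℕ, a ^ (p ^ k) ∈ N := by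
      intro a ha
      obtain ⟨k, hk⟩ := (pCore_isPGroup p (G := G ⧸ N)) ⟨π a, ha⟩
      refine ⟨k, (QuotientGroup.eq_one_iff _).1 ?_⟩
      have h2 := congrArg Subtype.val hk
      show π (a ^ (p ^ k)) = 1
      rw [map_pow]
      exact h2
    have hxR : x ∈ R := hxQ
    by_cases hrp : r = p
    · exfalso
      subst hrp
      apply hx
      have hRP : IsPGroup r R := by
        intro g
        obtain ⟨k, hk⟩ := hRp g g.2
        refine ⟨k + 1, Subtype.ext ?_⟩
        have h1 := hrN _ hk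
        show (g : G) ^ (r ^ (k + 1)) = 1
        rw [pow_succ, pow_mul]
        exact h1
      exact (le_pCore hRn hRP) hxR
    · have hNP : IsPGroup r N := by
        intro g
        refine ⟨1, Subtype.ext ?_⟩
        show (g : G) ^ (r ^ 1) = 1
        rw [pow_one]
        exact hrN _ g.2
      have hNcop : (Nat.card N).Coprime p := by
        obtain ⟨m, hm⟩ := IsPGroup.iff_card.1 hNP
        rw [hm]
        exact Nat.Coprime.pow_left m ((Nat.coprime_primes hr hpf.out).2 hrp)
      have hmoved : ∃ n₀ ∈ N, x * n₀ ≠ n₀ * x := by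
        by_contra h
        have h' : ∀ n₀ ∈ N, x * n₀ = n₀ * x := fun n₀ hn₀ => by
          by_contra hc
          exact h ⟨n₀, hn₀, hc⟩
        exact hx (mem_pCore_of_centralizes N R hNR hNcop hRp hxR hxp h')
      obtain ⟨n₀, hn₀, hne⟩ := hmoved
      obtain ⟨v₀, hv₀⟩ := exists_dual_moved N hNab hn₀ hne
      haveI hfin : Finite (Additive (↥N →* ℂˣ)) := inferInstance
      -- pairwise commuting modulo `N`
      have hxcomm : ∀ h : G ⧸ N, (h * π x * h⁻¹) * π x = π x * (h * π x * h⁻¹) := by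
        intro h
        have h1 : h * π x * h⁻¹ ∈ pCore p (G ⧸ N) := hQn.conj_mem _ hxQ h
        exact hcen _ (pCore_le_sylow Pb h1)
      have hquot : ∀ a b : G, (a * x * a⁻¹) * (b * x * b⁻¹) * ((b * x * b⁻¹) * (a * x * a⁻¹))⁻¹ ∈ N := by
        intro a b
        rw [← QuotientGroup.eq_one_iff]
        have h1 := hxcomm (π (a⁻¹ * b))
        show π ((a * x * a⁻¹) * (b * x * b⁻¹) * ((b * x * b⁻¹) * (a * x * a⁻¹))⁻¹) = 1
        have h2 : π (a * x * a⁻¹) * π (b * x * b⁻¹) = π (b * x * b⁻¹) * π (a * x * a⁻¹) := by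
          have h3 : π (b * x * b⁻¹) = π a * (π (a⁻¹ * b) * π x * (π (a⁻¹ * b))⁻¹) * (π a)⁻¹ := by
            simp only [map_mul, map_inv]
            group
          have h4 : π (a * x * a⁻¹) = π a * π x * (π a)⁻¹ := by
            simp only [map_mul, map_inv]
          rw [h3, h4]
          have h5 := h1
          calc π a * π x * (π a)⁻¹ * (π a * (π (a⁻¹ * b) * π x * (π (a⁻¹ * b))⁻¹) * (π a)⁻¹)
              = π a * (π x * (π (a⁻¹ * b) * π x * (π (a⁻¹ * b))⁻¹)) * (π a)⁻¹ := by group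
            _ = π a * ((π (a⁻¹ * b) * π x * (π (a⁻¹ * b))⁻¹) * π x) * (π a)⁻¹ := by rw [h5]
            _ = _ := by group
        have h6 : π (a * x * a⁻¹ * (b * x * b⁻¹)) = π (b * x * b⁻¹ * (a * x * a⁻¹)) := by
          rw [map_mul π (a * x * a⁻¹), map_mul π (b * x * b⁻¹), h2]
        rw [map_mul, map_inv, h6, mul_inv_cancel]
      obtain ⟨l, hl⟩ := exists_vec_moved (Γ := G) (V := Additive (↥N →* ℂˣ)) (p := p) (n := r)
        ((Nat.coprime_primes hr hpf.out).2 hrp) (dual_exponent N (r := r) hrN)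
        {c : G | ∃ h : G, c = h * x * h⁻¹}
        (by
          rintro _ ⟨a, rfl⟩ _ ⟨b, rfl⟩ v
          have h1 := hquot a b
          rw [← mul_smul, ← mul_smul]
          set A := a * x * a⁻¹
          set B := b * x * b⁻¹
          have h2 : A * B = (A * B * (B * A)⁻¹) * (B * A) := by group
          rw [h2, mul_smul]
          exact dual_trivial N hNab h1 _)
        (by
          rintro _ ⟨a, rfl⟩
          obtain ⟨k, hk⟩ := hxp
          refine ⟨k, fun v => ?_⟩
          rw [conj_pow, hk]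
          simp)
        (by
          rintro _ ⟨a, rfl⟩
          refine ⟨a • v₀, fun h => hv₀ ?_⟩
          have h1 : a • x • v₀ = a • v₀ := by
            rw [← h]
            simp [mul_smul]
          exact smul_left_cancel a h1)
      obtain ⟨m, hm⟩ := exists_pow_eq_of_commute hxu hxp hu
      refine exists_irr_zero_of_dual N hNab l (x * u) (fun h hfix => hl _ ⟨h, rfl⟩ ?_)
      have h1 : h * x * h⁻¹ = (h * (x * u) * h⁻¹) ^ m := by
        rw [conj_pow, hm]
      rw [h1]
      exact (MulAction.stabilizer G l).pow_mem hfix m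

theorem exists_vanishing_central {G : Type u} [Group G] [Finite G] (hsolv : Group.IsSolvable G)
    {p : ℕ} [Fact p.Prime] (P : Sylow p G) {x u : G} (hxP : x ∈ (P : Subgroup G))
    (hxc : ∀ a ∈ (P : Subgroup G), a * x = x * a) (hxu : Commute x u)
    (hu : (orderOf u).Coprime p) (hx : x ∉ Cfsg.pCore p G) :
    ∃ χ : Cfsg.IrrCharacter G, (χ : G → ℂ) (x * u) = 0 :=
  exists_vanishing_central_aux _ G rfl hsolv P hxP hxc hxu hu hx

end Cfsg.Agent.Lib.S4850
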