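import Cfsg.Agent.Lib.S4850.TwoCaseCore
import Cfsg.Agent.Lib.S4850.Central
import Cfsg.Agent.Lib.S4850.Regular

/-! S4850 piece M: exact statement, from `TwoCaseCore` and the landed pieces A, R. -/

namespace Cfsg.Agent.Lib.S4850
universe u

theorem sylow_two_card_le {H : Type u} [Group H] [Finite H] (hsolv : Group.IsSolvable H)
    (hO : Cfsg.pCore 2 H = ⊥)
    (ha : ∀ y : H, (∃ χ : Cfsg.IrrCharacter H, (χ : H → ℂ) y = 0) → 2 ∣ orderOf y → ∃ k : ℕ, y ^ (2 ^ k) = 1)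
    (hb : ∀ y : H, (∃ χ : Cfsg.IrrCharacter H, (χ : H → ℂ) y = 0) →
      (∃ χ : Cfsg.IrrCharacter H, (χ : H → ℂ) (y ^ 2) = 0) → y ^ 2 ≠ 1 → (∃ k : ℕ, y ^ (2 ^ k) = 1) → False)
    (Q : Sylow 2 H) : Nat.card (Q : Subgroup H) ≤ 2 := by
  haveI : Fact (Nat.Prime 2) := ⟨Nat.prime_two⟩
  refine sylow_two_card_le_core hsolv hO ha hb Q
    (fun {x u} h1 h2 h3 h4 h5 => exists_vanishing_central hsolv Q h1 h2 h3 h4 h5) ?_
  intro S h1 h2 h3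
  have hFodd : (Nat.card (Cfsg.pPrimeCore 2 H)).Coprime 2 :=
    Cfsg.Agent.Lib.Solvable.Carter.card_pPrimeCore_coprime 2
  refine exists_vec_moved (Γ := H) (V := Additive (↥(Cfsg.pPrimeCore 2 H) →* ℂˣ)) (p := 2)
    (n := Nat.card (Cfsg.pPrimeCore 2 H)) hFodd ?_ S h1 h2 h3
  intro v
  refine Cfsg.Agent.Lib.S4997.dual_exponent _ ?_ v
  intro n hn
  have h : (⟨n, hn⟩ : Cfsg.pPrimeCore 2 H) ^ (Nat.card (Cfsg.pPrimeCore 2 H)) = 1 := pow_card_eq_one'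
  exact congrArg Subtype.val h

end Cfsg.Agent.Lib.S4850
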