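import Mathlib
import Cfsg.Agent.Lib.S4997.Defs
import Cfsg.Agent.Lib.S4997.Dual
import Cfsg.Agent.Lib.S4997.CliffVanish
import Cfsg.Agent.Lib.Basic.PCore
import Cfsg.Agent.Lib.HallHigman.TheoremB
import Cfsg.Agent.Lib.Coprime.PSolvable
import Cfsg.Agent.Lib.Solvable.Carter

/-! S4850 piece M (core): `sylow_two_card_le_core`, with the two inputs `exists_vanishing_central`,
`exists_vec_moved` as hypotheses. -/

namespace Cfsg.Agent.Lib.S4850
open Cfsg Cfsg.Agent.Lib.S4997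
universe u

namespace TwoCaseAux

lemma eq_one_of_two_odd {H : Type*} [Group H] {c : H} {k m : ℕ} (h1 : c ^ (2 ^ k) = 1) (h2 : c ^ m = 1)
    (hm : Odd m) : c = 1 := by
  have h3 := orderOf_dvd_of_pow_eq_one h1
  have h4 := orderOf_dvd_of_pow_eq_one h2
  have hc : Nat.Coprime (2 ^ k) m := Nat.Coprime.pow_left _ (Nat.coprime_two_left.2 hm)
  have := Nat.Coprime.eq_one_of_dvd (Nat.Coprime.coprime_dvd_left h3 hc) h4
  exact orderOf_eq_one_iff.1 this

lemma invert_of_fpf {H : Type*} [Group H] [Finite H] (F : Subgroup H) [hF : F.Normal] (y : H)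
    (hy2 : y ^ 2 = 1) (hfp : ∀ c ∈ F, y * c = c * y → c = 1) : ∀ c ∈ F, y * c * y⁻¹ = c⁻¹ := by
  let φ : F →* F := (MulAut.conjNormal y).toMonoidHom
  have hφa : ∀ c : F, ((φ c : F) : H) = y * c * y⁻¹ := fun c => rfl
  have hyi : y⁻¹ = y := by
    rw [inv_eq_iff_mul_eq_one, ← pow_two, hy2]
  have hfpf : MonoidHom.FixedPointFree φ := by
    intro c hc
    have h1 : y * (c : H) * y⁻¹ = c := by
      rw [← hφa, hc]
    apply Subtype.ext
    apply hfp c c.2
    calc y * (c : H) = y * c * y⁻¹ * y := by group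
      _ = c * y := by rw [h1]
  have hinv : Function.Involutive φ := by
    intro c
    apply Subtype.ext
    rw [hφa, hφa, hyi]
    calc y * (y * (c : H) * y) * y = (y * y) * c * (y * y) := by group
      _ = c := by
        rw [← pow_two, hy2]
        group
  have h := hfpf.coe_eq_inv_of_involutive hinv
  intro c hc
  have h1 := congrFun h ⟨c, hc⟩
  have h2 := congrArg Subtype.val h1
  rw [hφa] at h2
  simpa using h2

/-- A central element of order two in a quotient of `Q` by a central involution. -/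
lemma exists_y {Q : Type*} [Group Q] [Finite Q] (hQ : IsPGroup 2 Q) {z : Q}
    (hzc : ∀ a : Q, a * z = z * a) (hz2 : z ^ 2 = 1) (hcard : 2 < Nat.card Q) :
    ∃ y : Q, y ≠ 1 ∧ y ≠ z ∧ (y ^ 2 = 1 ∨ y ^ 2 = z) ∧ ∀ q : Q, q * y * q⁻¹ = y ∨ q * y * q⁻¹ = y * z := by
  classical
  haveI : Fact (Nat.Prime 2) := ⟨Nat.prime_two⟩
  let Z : Subgroup Q := Subgroup.zpowers z
  have hZmem : ∀ a, a ∈ Z → a = 1 ∨ a = z := by
    rintro a ⟨n, rfl⟩
    rcases Int.even_or_odd' n with ⟨m, rfl | rfl⟩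
    · left
      change z ^ (2 * m) = 1
      rw [zpow_mul]
      have : z ^ (2 : ℤ) = 1 := by exact_mod_cast hz2
      rw [this, one_zpow]
    · right
      change z ^ (2 * m + 1) = z
      rw [zpow_add, zpow_mul, zpow_one]
      have : z ^ (2 : ℤ) = 1 := by exact_mod_cast hz2
      rw [this, one_zpow, one_mul]
  have hZnorm : Z.Normal := by
    constructor
    rintro a ha g
    rcases hZmem a ha with rfl | rfl
    · simpa using Z.one_mem
    · have : g * a * g⁻¹ = a := by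
        rw [hzc g, mul_inv_cancel_right]
      rw [this]
      exact Subgroup.mem_zpowers a
  have hZcard : Nat.card Z ≤ 2 := by
    have h1 : orderOf z ∣ 2 := orderOf_dvd_of_pow_eq_one hz2
    rw [Nat.card_zpowers]
    exact Nat.le_of_dvd (by norm_num) h1
  let Qb := Q ⧸ Z
  have hQb : IsPGroup 2 Qb := hQ.to_quotient Z
  haveI : Nontrivial Qb := by
    rw [← Finite.one_lt_card_iff_nontrivial]
    have h2 := Z.card_mul_index
    have h3 : Nat.card Qb = Z.index := rfl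
    rw [h3]
    by_contra hlt
    have h4 : Z.index ≤ 1 := by omega
    have h5 : Z.index ≠ 0 := Subgroup.index_ne_zero_of_finite
    have h6 : Z.index = 1 := by omega
    rw [h6, mul_one] at h2
    omega
  haveI hCn : Nontrivial (Subgroup.center Qb) := hQb.center_nontrivial
  have hdvd : 2 ∣ Nat.card (Subgroup.center Qb) := by
    obtain ⟨n, hn⟩ := IsPGroup.iff_card.1 (hQb.to_subgroup (Subgroup.center Qb))
    have h1 : 1 < Nat.card (Subgroup.center Qb) := Finite.one_lt_card_iff_nontrivial.2 hCn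
    rw [hn] at h1 ⊢
    apply dvd_pow_self
    rintro rfl
    simp at h1
  obtain ⟨w, hw⟩ := exists_prime_orderOf_dvd_card' 2 hdvd
  obtain ⟨y, hy⟩ := QuotientGroup.mk_surjective (w : Qb)
  have hw2 : (w : Qb) ^ 2 = 1 := by
    have : w ^ 2 = 1 := by rw [← hw]; exact pow_orderOf_eq_one w
    exact_mod_cast congrArg Subtype.val this
  have hw1 : (w : Qb) ≠ 1 := by
    intro h
    have : w = 1 := Subtype.ext h
    rw [this, orderOf_one] at hw
    omega
  have hyZ : y ∉ Z := by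
    intro h
    apply hw1
    rw [← hy]
    exact (QuotientGroup.eq_one_iff y).2 h
  have hy2Z : y ^ 2 ∈ Z := by
    rw [← QuotientGroup.eq_one_iff]
    change ((y : Qb)) ^ 2 = 1
    rw [hy]
    exact hw2
  refine ⟨y, ?_, ?_, hZmem _ hy2Z, ?_⟩
  · rintro rfl
    exact hyZ Z.one_mem
  · rintro rfl
    exact hyZ (Subgroup.mem_zpowers y)
  · intro q
    have h1 : (q : Qb) * (y : Qb) * (q : Qb)⁻¹ * (y : Qb)⁻¹ = 1 := by
      have hc := Subgroup.mem_center_iff.1 w.2 (q : Qb)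
      rw [hy, hc]
      group
    have h2 : q * y * q⁻¹ * y⁻¹ ∈ Z := by
      rw [← QuotientGroup.eq_one_iff]
      exact h1
    rcases hZmem _ h2 with h3 | h3
    · left
      exact mul_inv_eq_one.1 h3
    · right
      have h4 : q * y * q⁻¹ = z * y := mul_inv_eq_iff_eq_mul.1 h3
      rw [h4, hzc y]

end TwoCaseAux

open TwoCaseAux in
/-- S4850 piece M with the two inputs as hypotheses. -/
theorem sylow_two_card_le_core {H : Type u} [Group H] [Finite H] (hsolv : Group.IsSolvable H)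
    (hO : Cfsg.pCore 2 H = ⊥)
    (ha : ∀ y : H, (∃ χ : Cfsg.IrrCharacter H, (χ : H → ℂ) y = 0) → 2 ∣ orderOf y → ∃ k : ℕ, y ^ (2 ^ k) = 1)
    (hb : ∀ y : H, (∃ χ : Cfsg.IrrCharacter H, (χ : H → ℂ) y = 0) →
      (∃ χ : Cfsg.IrrCharacter H, (χ : H → ℂ) (y ^ 2) = 0) → y ^ 2 ≠ 1 → (∃ k : ℕ, y ^ (2 ^ k) = 1) → False)
    (Q : Sylow 2 H)
    (hcen : ∀ {x u : H}, x ∈ (Q : Subgroup H) → (∀ a ∈ (Q : Subgroup H), a * x = x * a) → Commute x u →
      (orderOf u).Coprime 2 → x ∉ Cfsg.pCore 2 H → ∃ χ : Cfsg.IrrCharacter H, (χ : H → ℂ) (x * u) = 0)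
    (hmv : ∀ S : Set H, (∀ a ∈ S, ∀ b ∈ S, ∀ v : Additive (↥(Cfsg.pPrimeCore 2 H) →* ℂˣ), a • b • v = b • a • v) →
      (∀ a ∈ S, ∃ k : ℕ, ∀ v : Additive (↥(Cfsg.pPrimeCore 2 H) →* ℂˣ), a ^ (2 ^ k) • v = v) →
      (∀ a ∈ S, ∃ v : Additive (↥(Cfsg.pPrimeCore 2 H) →* ℂˣ), a • v ≠ v) →
      ∃ v : Additive (↥(Cfsg.pPrimeCore 2 H) →* ℂˣ), ∀ a ∈ S, a • v ≠ v) :
    Nat.card (Q : Subgroup H) ≤ 2 := by
  classical
  haveI : Fact (Nat.Prime 2) := ⟨Nat.prime_two⟩
  by_contra hQ2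
  push Not at hQ2
  set F := Cfsg.pPrimeCore 2 H with hFdef
  haveI hFn : F.Normal := Cfsg.Agent.Lib.Basic.PCore.pPrimeCore_normal 2 H
  have hFodd : Odd (Nat.card F) :=
    Nat.coprime_two_right.1 (Cfsg.Agent.Lib.Solvable.Carter.card_pPrimeCore_coprime 2)
  have hFelt : ∀ c ∈ F, c ^ (Nat.card F) = 1 := by
    intro c hc
    have h : (⟨c, hc⟩ : F) ^ (Nat.card F) = 1 := pow_card_eq_one'
    exact congrArg Subtype.val h
  have hQelt : ∀ q ∈ (Q : Subgroup H), ∃ k : ℕ, q ^ (2 ^ k) = 1 := by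
    intro q hq
    obtain ⟨k, hk⟩ := Q.isPGroup' ⟨q, hq⟩
    exact ⟨k, by simpa using congrArg Subtype.val hk⟩
  have hFQ : ∀ c ∈ F, c ∈ (Q : Subgroup H) → c = 1 := by
    intro c hc hq
    obtain ⟨k, hk⟩ := hQelt c hq
    exact eq_one_of_two_odd hk (hFelt c hc) hFodd
  -- the central involution
  have hQcard : 1 < Nat.card (Q : Subgroup H) := by omega
  haveI : Nontrivial (Q : Subgroup H) := Finite.one_lt_card_iff_nontrivial.1 hQcard
  haveI hcn : Nontrivial (Subgroup.center (Q : Subgroup H)) := Q.isPGroup'.center_nontrivial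
  obtain ⟨z₀, hz₀⟩ := exists_ne (1 : Subgroup.center (Q : Subgroup H))
  set z : H := ((z₀ : (Q : Subgroup H)) : H) with hzdef
  have hzQ : z ∈ (Q : Subgroup H) := (z₀ : (Q : Subgroup H)).2
  have hz1 : z ≠ 1 := by
    intro h
    apply hz₀
    apply Subtype.ext
    apply Subtype.ext
    exact h
  have hzc : ∀ a ∈ (Q : Subgroup H), a * z = z * a := by
    intro a ha'
    have := Subgroup.mem_center_iff.1 z₀.2 ⟨a, ha'⟩
    exact congrArg Subtype.val this
  have hV : ∀ z' ∈ (Q : Subgroup H), (∀ a ∈ (Q : Subgroup H), a * z' = z' * a) → z' ≠ 1 →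
      ∀ u, Commute z' u → Odd (orderOf u) → ∃ χ : Cfsg.IrrCharacter H, (χ : H → ℂ) (z' * u) = 0 := by
    intro z' h1 h2 h3 u h4 h5
    refine hcen h1 h2 h4 (Nat.coprime_two_right.2 h5) ?_
    rw [hO]
    simpa using h3
  have hV1 : ∀ z' ∈ (Q : Subgroup H), (∀ a ∈ (Q : Subgroup H), a * z' = z' * a) → z' ≠ 1 →
      ∃ χ : Cfsg.IrrCharacter H, (χ : H → ℂ) z' = 0 := by
    intro z' h1 h2 h3
    have := hV z' h1 h2 h3 1 (Commute.one_right _) (by simp)
    simpa using this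
  -- M2
  have hz2 : z ^ 2 = 1 := by
    by_contra hne
    have hz2Q : z ^ 2 ∈ (Q : Subgroup H) := Subgroup.pow_mem _ hzQ 2
    have hz2c : ∀ a ∈ (Q : Subgroup H), a * z ^ 2 = z ^ 2 * a := by
      intro a ha'
      exact ((Commute.pow_right (show Commute a z from hzc a ha') 2) : _)
    exact hb z (hV1 z hzQ hzc hz1) (hV1 _ hz2Q hz2c hne) hne (hQelt z hzQ)
  have hzi : z⁻¹ = z := by
    rw [inv_eq_iff_mul_eq_one, ← pow_two, hz2]
  -- M3
  have hCz : ∀ u, Commute z u → Odd (orderOf u) → u = 1 := by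
    intro u hzu hu
    obtain ⟨χ, hχ⟩ := hV z hzQ hzc hz1 u hzu hu
    have ho : orderOf z = 2 := orderOf_eq_prime hz2 hz1
    have ho2 : orderOf (z * u) = 2 * orderOf u := by
      rw [hzu.orderOf_mul_eq_mul_orderOf_of_coprime (by rw [ho]; exact Nat.coprime_two_left.2 hu), ho]
    obtain ⟨k, hk⟩ := ha (z * u) ⟨χ, hχ⟩ ⟨orderOf u, ho2⟩
    have h1 := orderOf_dvd_of_pow_eq_one hk
    rw [ho2] at h1
    have h2 : orderOf u ∣ 2 ^ k := (Nat.dvd_mul_left _ _).trans h1
    have hc : Nat.Coprime (orderOf u) (2 ^ k) := Nat.Coprime.pow_right _ (Nat.coprime_two_right.2 hu)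
    have h3 := Nat.Coprime.eq_one_of_dvd hc h2
    exact orderOf_eq_one_iff.1 h3
  have hC2 : ∀ c, Commute z c → ∃ k : ℕ, c ^ (2 ^ k) = 1 := by
    intro c hc
    have hn : orderOf c ≠ 0 := (orderOf_pos c).ne'
    obtain ⟨a, m, hm, hnm⟩ := Nat.exists_eq_two_pow_mul_odd hn
    refine ⟨a, hCz _ (hc.pow_right _) ?_⟩
    have h1 : orderOf (c ^ (2 ^ a)) ∣ m := by
      apply orderOf_dvd_of_pow_eq_one
      rw [← pow_mul, ← hnm, pow_orderOf_eq_one]
    exact Odd.of_dvd_nat hm h1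
  have hCQ : ∀ c, Commute z c → c ∈ (Q : Subgroup H) := by
    have hpc : IsPGroup 2 (Subgroup.centralizer ({z} : Set H)) := by
      rintro ⟨c, hc⟩
      have hc' : Commute z c := by
        have := Subgroup.mem_centralizer_iff.1 hc z rfl
        exact this
      obtain ⟨k, hk⟩ := hC2 c hc'
      exact ⟨k, Subtype.ext (by simpa using hk)⟩
    have hle : (Q : Subgroup H) ≤ Subgroup.centralizer ({z} : Set H) := by
      intro a ha'
      rw [Subgroup.mem_centralizer_iff]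
      rintro _ rfl
      exact (hzc a ha').symm
    have heq := Q.is_maximal' hpc hle
    intro c hc
    rw [← heq, Subgroup.mem_centralizer_iff]
    rintro _ rfl
    exact hc
  -- M4
  have hinv : ∀ c ∈ F, z * c * z⁻¹ = c⁻¹ := by
    apply invert_of_fpf F z hz2
    intro c hc hcomm
    exact hFQ c hc (hCQ c hcomm)
  have hzF : ∀ c ∈ F, z * c = c⁻¹ * z := fun c hc => by
    rw [← hinv c hc]
    group
  have hFab : ∀ a ∈ F, ∀ b ∈ F, a * b = b * a := by
    intro a ha' b hb'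
    have h1 := hinv (a⁻¹ * b⁻¹) (F.mul_mem (F.inv_mem ha') (F.inv_mem hb'))
    have h2 : z * (a⁻¹ * b⁻¹) * z⁻¹ = (z * a⁻¹ * z⁻¹) * (z * b⁻¹ * z⁻¹) := by group
    rw [h2, hinv _ (F.inv_mem ha'), hinv _ (F.inv_mem hb')] at h1
    simpa using h1
  -- M5
  have hCF : ∀ c, (∀ n ∈ F, c * n = n * c) → c ∈ F := by
    intro c hc
    apply Cfsg.Agent.Lib.HallHigman.TheoremB.centralizer_pPrimeCore_le
      (Cfsg.Agent.Lib.Coprime.PSolvable.isPSolvable_of_isSolvable Nat.prime_two hsolv) hO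
    rw [Subgroup.mem_centralizer_iff]
    intro n hn
    exact (hc n hn).symm
  -- M6, M7
  have hfact : ∀ g : H, ∃ f ∈ F, ∃ q ∈ (Q : Subgroup H), g = f * q := by
    intro g
    set t := z * (g * z * g⁻¹) with ht
    have hB : ∀ n ∈ F, (g * z * g⁻¹) * n = n⁻¹ * (g * z * g⁻¹) := by
      intro n hn
      have hn' : g⁻¹ * n * g ∈ F := by
        simpa using hFn.conj_mem n hn g⁻¹
      have h1 := hzF _ hn'
      calc (g * z * g⁻¹) * n = g * (z * (g⁻¹ * n * g)) * g⁻¹ := by group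
        _ = g * ((g⁻¹ * n * g)⁻¹ * z) * g⁻¹ := by rw [h1]
        _ = n⁻¹ * (g * z * g⁻¹) := by group
    have htF : t ∈ F := by
      apply hCF
      intro n hn
      calc t * n = z * ((g * z * g⁻¹) * n) := by rw [ht]; group
        _ = z * (n⁻¹ * (g * z * g⁻¹)) := by rw [hB n hn]
        _ = (z * n⁻¹) * (g * z * g⁻¹) := by group
        _ = (n⁻¹)⁻¹ * z * (g * z * g⁻¹) := by rw [hzF _ (F.inv_mem hn)]
        _ = n * t := by rw [ht, inv_inv]; group
    obtain ⟨m, hm⟩ := hFodd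
    let f := t⁻¹ ^ (m + 1)
    have hfF : f ∈ F := F.pow_mem (F.inv_mem htF) _
    have hf2 : f * f = t⁻¹ := by
      have h1 := hFelt _ (F.inv_mem htF)
      rw [hm] at h1
      calc f * f = t⁻¹ ^ (2 * m + 1 + 1) := by
            change t⁻¹ ^ (m + 1) * t⁻¹ ^ (m + 1) = _
            rw [← pow_add]
            congr 1
            ring
        _ = t⁻¹ := by rw [pow_succ, h1, one_mul]
    have hfz : f * z * f⁻¹ = g * z * g⁻¹ := by
      have h1 := hzF _ (F.inv_mem hfF)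
      rw [inv_inv] at h1
      calc f * z * f⁻¹ = f * (z * f⁻¹) := by group
        _ = f * (f * z) := by rw [h1]
        _ = (f * f) * z := by group
        _ = t⁻¹ * z := by rw [hf2]
        _ = (g * z * g⁻¹)⁻¹ * z⁻¹ * z := by rw [ht]; group
        _ = g * z⁻¹ * g⁻¹ := by group
        _ = g * z * g⁻¹ := by rw [hzi]
    have hq : Commute z (f⁻¹ * g) := by
      have h2 : f⁻¹ * (g * z * g⁻¹) * f = z := by
        rw [← hfz]
        group
      change z * (f⁻¹ * g) = (f⁻¹ * g) * z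
      calc z * (f⁻¹ * g) = (f⁻¹ * (g * z * g⁻¹) * f) * (f⁻¹ * g) := by rw [h2]
        _ = (f⁻¹ * g) * z := by group
    exact ⟨f, hfF, f⁻¹ * g, hCQ _ hq, by group⟩
  -- M8
  have hzc' : ∀ a : (Q : Subgroup H), a * (⟨z, hzQ⟩ : (Q : Subgroup H)) = ⟨z, hzQ⟩ * a := by
    intro a
    exact Subtype.ext (hzc a a.2)
  obtain ⟨y₀, hy1, hyz, hy2, hyq⟩ := exists_y Q.isPGroup' hzc' (Subtype.ext (by simpa using hz2)) hQ2
  set y : H := (y₀ : H) with hydef
  have hyQ : y ∈ (Q : Subgroup H) := y₀.2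
  have hy1' : y ≠ 1 := fun h => hy1 (Subtype.ext h)
  have hyz' : y ≠ z := fun h => hyz (Subtype.ext h)
  have hy2' : y ^ 2 = 1 ∨ y ^ 2 = z := by
    rcases hy2 with h | h
    · left; simpa using congrArg Subtype.val h
    · right; simpa using congrArg Subtype.val h
  have hyq' : ∀ q ∈ (Q : Subgroup H), q * y * q⁻¹ = y ∨ q * y * q⁻¹ = y * z := by
    intro q hq
    rcases hyq ⟨q, hq⟩ with h | h
    · left; simpa using congrArg Subtype.val h
    · right; simpa using congrArg Subtype.val h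
  -- M9
  have hyzQ : y * z ∈ (Q : Subgroup H) := Subgroup.mul_mem _ hyQ hzQ
  have hyz1 : y * z ≠ 1 := by
    intro h
    apply hyz'
    have : y = z⁻¹ := eq_inv_of_mul_eq_one_left h
    rw [this, hzi]
  have hmoved : ∀ a ∈ (Q : Subgroup H), a ≠ 1 → ∃ v : Additive (↥F →* ℂˣ), a • v ≠ v := by
    intro a haQ ha1
    have haF : a ∉ F := fun h => ha1 (hFQ a h haQ)
    have : ∃ n ∈ F, a * n ≠ n * a := by
      by_contra hh
      push Not at hh
      exact haF (hCF a hh)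
    obtain ⟨n, hn, hne⟩ := this
    exact exists_dual_moved F hFab hn hne
  have hyzc : y * (y * z) = (y * z) * y := by
    have := hzc y hyQ
    calc y * (y * z) = y * (y * z) := rfl
      _ = y * (z * y) := by rw [this]
      _ = (y * z) * y := by group
  obtain ⟨l, hl⟩ := hmv {y, y * z}
    (by
      rintro a (rfl | rfl) b (rfl | rfl) v
      · rfl
      · rw [smul_smul, smul_smul, hyzc]
      · rw [smul_smul, smul_smul, hyzc]
      · rfl)
    (by
      rintro a (rfl | rfl)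
      · obtain ⟨k, hk⟩ := hQelt _ hyQ
        exact ⟨k, fun v => by rw [hk, one_smul]⟩
      · obtain ⟨k, hk⟩ := hQelt _ hyzQ
        exact ⟨k, fun v => by rw [hk, one_smul]⟩)
    (by
      rintro a (rfl | rfl)
      · exact hmoved _ hyQ hy1'
      · exact hmoved _ hyzQ hyz1)
  have hl1 : y • l ≠ l := hl y (Or.inl rfl)
  have hl2 : (y * z) • l ≠ l := hl (y * z) (Or.inr rfl)
  -- M10
  have htriv : ∀ n ∈ F, ∀ v : Additive (↥F →* ℂˣ), n • v = v := by
    intro n hn v
    apply Additive.toMul.injective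
    ext n'
    rw [dualAction_apply]
    congr 2
    apply Subtype.ext
    change n⁻¹ * (n' : H) * n = n'
    rw [hFab _ (F.inv_mem hn) _ n'.2]
    group
  have hvan : ∀ c ∈ F, ∃ χ : Cfsg.IrrCharacter H, (χ : H → ℂ) (y * c) = 0 := by
    intro c hc
    apply exists_irr_zero_of_dual F hFab l (y * c)
    intro h hfix
    obtain ⟨f, hf, q, hq, rfl⟩ := hfact h
    have hn : q * c * q⁻¹ ∈ F := hFn.conj_mem c hc q
    have e : (f * q) * (y * c) * (f * q)⁻¹ = f * ((q * y * q⁻¹) * ((q * c * q⁻¹) * f⁻¹)) := by group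
    rw [e] at hfix
    have key : ∀ a n : H, n ∈ F → (f * (a * (n * f⁻¹))) • l = l → a • l = l := by
      intro a n hnF h
      rw [mul_smul, mul_smul, mul_smul, htriv _ (F.inv_mem hf), htriv _ hnF, htriv _ hf] at h
      exact h
    have h1 := key _ _ hn hfix
    rcases hyq' q hq with h2 | h2
    · rw [h2] at h1
      exact hl1 h1
    · rw [h2] at h1
      exact hl2 h1
  -- M11
  have hfpy : ∀ c ∈ F, y * c = c * y → c = 1 := by
    intro c hc hcomm
    obtain ⟨χ, hχ⟩ := hvan c hc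
    have hoc : Odd (orderOf c) := Odd.of_dvd_nat hFodd (orderOf_dvd_of_pow_eq_one (hFelt c hc))
    obtain ⟨k₀, hk₀⟩ := hQelt y hyQ
    have hoy : orderOf y ∣ 2 ^ k₀ := orderOf_dvd_of_pow_eq_one hk₀
    have hcop : (orderOf y).Coprime (orderOf c) :=
      Nat.Coprime.coprime_dvd_left hoy (Nat.Coprime.pow_left _ (Nat.coprime_two_left.2 hoc))
    have ho : orderOf (y * c) = orderOf y * orderOf c :=
      Commute.orderOf_mul_eq_mul_orderOf_of_coprime hcomm hcop
    have h2y : 2 ∣ orderOf y := by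
      obtain ⟨j, _, hj⟩ := (Nat.dvd_prime_pow Nat.prime_two).1 hoy
      rw [hj]
      apply dvd_pow_self
      rintro rfl
      apply hy1'
      rw [pow_zero] at hj
      exact orderOf_eq_one_iff.1 hj
    obtain ⟨k, hk⟩ := ha (y * c) ⟨χ, hχ⟩ (by rw [ho]; exact Dvd.dvd.mul_right h2y _)
    have h1 : orderOf (y * c) ∣ 2 ^ k := orderOf_dvd_of_pow_eq_one hk
    rw [ho] at h1
    have h2 : orderOf c ∣ 2 ^ k := (Nat.dvd_mul_left _ _).trans h1
    exact orderOf_eq_one_iff.1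
      (Nat.Coprime.eq_one_of_dvd (Nat.Coprime.pow_right _ (Nat.coprime_two_right.2 hoc)) h2)
  -- M12
  have hy0 : ∃ χ : Cfsg.IrrCharacter H, (χ : H → ℂ) y = 0 := by
    simpa using hvan 1 F.one_mem
  rcases hy2' with h | h
  · have hinvy := invert_of_fpf F y h hfpy
    have hyF : ∀ n ∈ F, y * n = n⁻¹ * y := fun n hn => by
      rw [← hinvy n hn]
      group
    have hF' : y * z ∈ F := by
      apply hCF
      intro n hn
      calc y * z * n = y * (z * n) := by group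
        _ = y * (n⁻¹ * z) := by rw [hzF n hn]
        _ = (y * n⁻¹) * z := by group
        _ = ((n⁻¹)⁻¹ * y) * z := by rw [hyF _ (F.inv_mem hn)]
        _ = n * (y * z) := by rw [inv_inv]; group
    exact hyz1 (hFQ _ hF' hyzQ)
  · exact hb y hy0 (by rw [h]; exact hV1 z hzQ hzc hz1) (by rw [h]; exact hz1) (hQelt y hyQ)

end Cfsg.Agent.Lib.S4850
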